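import Groth.Agent.ThetaGrp.K595.Rep

/-!
# Representability of the theta group (main part)
-/

set_option autoImplicit false
universe u

open CategoryTheory CategoryTheory.Limits MonoidalCategory CartesianMonoidalCategory MonObj AlgebraicGeometry
open ThetaGrp K999.Cart K999.Rel

noncomputable section

namespace K595.ThetaRep

variable {S : Scheme.{u}} (A : Over S) [GrpObj A] (L : A.left.Modules)

theorem isPullback_whisker (P : Over S) {X Y : Over S} (f : X ⟶ Y) :
    IsPullback (P ◁ f).left (snd P X).left (snd P Y).left f.left := by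
  have h : IsPullback (P ◁ f) (snd P X) (snd P Y) f :=
    { w := by simp
      isLimit' := ⟨PullbackCone.IsLimit.mk _ (fun s => lift (s.fst ≫ fst P Y) s.snd)
        (fun s => by
          apply CartesianMonoidalCategory.hom_ext
          · simp
          · simp [s.condition])
        (fun s => by simp)
        (fun s m h1 h2 => by
          apply CartesianMonoidalCategory.hom_ext
          · simp [← h1]
          · simpa using h2)⟩ }
  exact h.map (Over.forget S)

/-- The base scheme `A × A ⟶ A`. -/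
abbrev ff : (A ⊗ A).left ⟶ A.left := (snd A A).left

/-- The point as an `A`-scheme. -/
abbrev TA {T : Over S} (x : T ⟶ A) : Over A.left := Over.mk x.left

/-- Comparison `A × T ⟶ (A × A)_T`. -/
def jT {T : Over S} (x : T ⟶ A) : (A ⊗ T).left ⟶ PicF.XT (ff A) (TA A x) :=
  pullback.lift (A ◁ x).left (snd A T).left (by
    change (A ◁ x).left ≫ (snd A A).left = (snd A T).left ≫ x.left
    rw [← Over.comp_left, ← Over.comp_left, whiskerLeft_snd])

instance {T : Over S} (x : T ⟶ A) : IsIso (jT A x) := by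
  have h := isPullback_whisker A x
  have : jT A x = h.isoPullback.hom := by
    apply pullback.hom_ext
    · rw [jT, pullback.lift_fst]
      exact h.isoPullback_hom_fst.symm
    · rw [jT, pullback.lift_snd]
      exact h.isoPullback_hom_snd.symm
  rw [this]
  infer_instance

/-- Shorthand for the first family. -/
abbrev E₁ {T' : Over A.left} : (PicF.XT (ff A) T').Modules :=
  FGA.ET (ff A) ((Scheme.Modules.pullback (fst A A).left).obj L) T'

/-- Shorthand for the second family. -/
abbrev E₂ {T' : Over A.left} : (PicF.XT (ff A) T').Modules :=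
  FGA.ET (ff A) ((Scheme.Modules.pullback (μ[A] : A ⊗ A ⟶ A).left).obj L) T'

theorem eT_aux {T : Over S} (x : T ⟶ A) : (pr A L T).base =
    jT A x ≫ (proj (ff A) L (fst A A).left (TA A x)).base := by
  rw [pr_base, proj_base, jT, pullback.lift_fst_assoc, ← Over.comp_left, whiskerLeft_fst]

/-- Comparison of pairs. -/
def eT {T : Over S} (x : T ⟶ A) : thetaObj A L T ⟶ ob (PicF.XT (ff A) (TA A x)) (E₁ A L) :=
  (isCart_proj (ff A) L (fst A A).left (TA A x)).lift (a' := thetaObj A L T) (jT A x) (pr A L T) (eT_aux A L x)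

theorem eT_base {T : Over S} (x : T ⟶ A) : (eT A L x).base = jT A x :=
  (isCart_proj (ff A) L (fst A A).left (TA A x)).lift_base _ _ _

theorem eT_proj {T : Over S} (x : T ⟶ A) :
    eT A L x ≫ proj (ff A) L (fst A A).left (TA A x) = pr A L T :=
  (isCart_proj (ff A) L (fst A A).left (TA A x)).lift_comp _ _ _

instance {T : Over S} (x : T ⟶ A) : IsIso (eT A L x) := by
  have h : IsCart (eT A L x) :=
    (isCart_proj (ff A) L (fst A A).left (TA A x)).of_comp (by rw [eT_proj]; exact isCart_pr A L T)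
  refine h.isIso ?_
  rw [eT_base]
  infer_instance

theorem transl_fst_eq {T : Over S} (x : T ⟶ A) : (transl A x).left ≫ (fst A T).left =
    jT A x ≫ pullback.fst (ff A) (TA A x).hom ≫ (μ[A] : A ⊗ A ⟶ A).left := by
  rw [jT, pullback.lift_fst_assoc, ← Over.comp_left, ← Over.comp_left, transl_fst, Hom.mul_def]
  congr 1

/-- The comparison between theta points and isomorphisms. -/
def Cmp {T : Over S} (x : T ⟶ A) (β : thetaPts A L T) (v : E₁ A L (T' := TA A x) ≅ E₂ A L) : Prop :=
  β.1.hom ≫ pr A L T = eT A L x ≫ Phi (ff A) (fst A A).left (μ[A] : A ⊗ A ⟶ A).left L v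

variable {A L}

theorem Cmp.pt_eq {T : Over S} {x : T ⟶ A} {β : thetaPts A L T} {v : E₁ A L (T' := TA A x) ≅ E₂ A L}
    (h : Cmp A L x β v) : pt β = x := by
  have h1 : (β.1.hom ≫ pr A L T).base =
    (eT A L x ≫ Phi (ff A) (fst A A).left (μ[A] : A ⊗ A ⟶ A).left L v).base := by rw [h]
  change β.1.hom.base ≫ (fst A T).left = (eT A L x).base ≫ (Phi (ff A) (fst A A).left (μ[A] : A ⊗ A ⟶ A).left L v).base at h1
  have h2 : β.1.hom.base = (transl A (pt β)).left := over_pt β
  rw [h2, eT_base, Phi_base, ← transl_fst_eq] at h1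
  have h3 : transl A (pt β) ≫ fst A T = transl A x ≫ fst A T := Over.OverMorphism.ext h1
  have h4 : transl A (pt β) = transl A x := by
    apply CartesianMonoidalCategory.hom_ext _ _ h3
    rw [transl_snd, transl_snd]
  exact transl_inj (congrArg CommaMorphism.left h4)

theorem Cmp.unique {T : Over S} {x : T ⟶ A} {β β' : thetaPts A L T} {v : E₁ A L (T' := TA A x) ≅ E₂ A L}
    (h : Cmp A L x β v) (h' : Cmp A L x β' v) : β = β' := by
  refine ext_hom ((isCart_pr A L T).ext ?_ (h.trans h'.symm))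
  have h1 : β.1.hom.base = (transl A (pt β)).left := over_pt β
  have h2 : β'.1.hom.base = (transl A (pt β')).left := over_pt β'
  rw [h1, h2, h.pt_eq, h'.pt_eq]

theorem Cmp.unique' {T : Over S} {x : T ⟶ A} {β : thetaPts A L T} {v v' : E₁ A L (T' := TA A x) ≅ E₂ A L}
    (h : Cmp A L x β v) (h' : Cmp A L x β v') : v = v' :=
  Phi_inj _ _ _ _ ((cancel_epi (eT A L x)).mp (h.symm.trans h'))

theorem exists_v {T : Over S} (β : thetaPts A L T) : ∃ v, Cmp A L (pt β) β v := by
  have hβ : IsCart β.1.hom := @IsCart.of_isIso _ _ β.1.hom (Iso.isIso_hom β.1)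
  have hc : IsCart (inv (eT A L (pt β)) ≫ β.1.hom ≫ pr A L T) :=
    (IsCart.of_isIso _).comp (hβ.comp (isCart_pr A L T))
  obtain ⟨v, hv⟩ := exists_Phi (ff A) (fst A A).left (μ[A] : A ⊗ A ⟶ A).left L
    (inv (eT A L (pt β)) ≫ β.1.hom ≫ pr A L T) (by
      have e1 : (eT A L (pt β)).base ≫ (inv (eT A L (pt β)) ≫ β.1.hom ≫ pr A L T).base =
          (β.1.hom ≫ pr A L T).base := by
        change (eT A L (pt β) ≫ inv (eT A L (pt β)) ≫ β.1.hom ≫ pr A L T).base = _
        rw [IsIso.hom_inv_id_assoc]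
      have e2 : (β.1.hom ≫ pr A L T).base = (transl A (pt β)).left ≫ (fst A T).left := by
        have h2 : β.1.hom.base = (transl A (pt β)).left := over_pt β
        change β.1.hom.base ≫ _ = _
        rw [h2]
        rfl
      rw [eT_base, e2, transl_fst_eq] at e1
      exact (cancel_epi (jT A (pt β))).mp e1) hc
  refine ⟨v, ?_⟩
  rw [Cmp, hv, IsIso.hom_inv_id_assoc]

theorem exists_β {T : Over S} (x : T ⟶ A) (v : E₁ A L (T' := TA A x) ≅ E₂ A L) :
    ∃ β : thetaPts A L T, Cmp A L x β v := by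
  have hφ : IsCart (eT A L x ≫ Phi (ff A) (fst A A).left (μ[A] : A ⊗ A ⟶ A).left L v) :=
    (IsCart.of_isIso _).comp (isCart_Phi _ _ _ _ _)
  have hb : (eT A L x ≫ Phi (ff A) (fst A A).left (μ[A] : A ⊗ A ⟶ A).left L v).base =
      (transl A x).left ≫ (pr A L T).base := by
    change (eT A L x).base ≫ (Phi (ff A) (fst A A).left (μ[A] : A ⊗ A ⟶ A).left L v).base = _
    rw [eT_base, Phi_base, ← transl_fst_eq]
    rfl
  let φ : thetaObj A L T ⟶ thetaObj A L T := (isCart_pr A L T).lift (a' := thetaObj A L T) (transl A x).left _ hb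
  have h1 : φ.base = (transl A x).left := (isCart_pr A L T).lift_base _ _ _
  have h2 : φ ≫ pr A L T = eT A L x ≫ Phi (ff A) (fst A A).left (μ[A] : A ⊗ A ⟶ A).left L v :=
    (isCart_pr A L T).lift_comp _ _ _
  have h3 : IsCart φ := (isCart_pr A L T).of_comp (by rw [h2]; exact hφ)
  have h4 : IsIso (transl A x).left := by
    have e1 : (transl A x).left ≫ (transl A x⁻¹).left = 𝟙 _ := by
      rw [← Over.comp_left, ← transl_mul, mul_inv_cancel, transl_one]
      rfl
    have e2 : (transl A x⁻¹).left ≫ (transl A x).left = 𝟙 _ := by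
      rw [← Over.comp_left, ← transl_mul, inv_mul_cancel, transl_one]
      rfl
    exact ⟨_, e1, e2⟩
  have h5 : IsIso φ := h3.isIso (by rw [h1]; exact h4)
  exact ⟨⟨asIso φ, x, h1⟩, h2⟩

/-- The `A`-morphism attached to a morphism. -/
abbrev gA {T T' : Over S} (g : T' ⟶ T) (x : T ⟶ A) : TA A (g ≫ x) ⟶ TA A x :=
  Over.homMk g.left (Over.comp_left _ _ _ _ _).symm

omit [GrpObj A] in
theorem jT_map {T T' : Over S} (g : T' ⟶ T) (x : T ⟶ A) :
    jT A (g ≫ x) ≫ PicF.XTmap (ff A) (gA g x) = (A ◁ g).left ≫ jT A x := by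
  apply pullback.hom_ext
  · rw [Category.assoc, Category.assoc, FGA.XTmap_fst]
    rw [jT, jT, pullback.lift_fst, pullback.lift_fst, ← Over.comp_left, whiskerLeft_comp]
  · rw [Category.assoc, Category.assoc]
    have : PicF.XTmap (ff A) (gA g x) ≫ pullback.snd (ff A) (TA A x).hom =
        pullback.snd (ff A) (TA A (g ≫ x)).hom ≫ g.left := by
      rw [PicF.XTmap, pullback.map, pullback.lift_snd]
      rfl
    rw [this, jT, jT, pullback.lift_snd_assoc, pullback.lift_snd, ← Over.comp_left, ← Over.comp_left, whiskerLeft_snd]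

theorem eT_bca {T T' : Over S} (g : T' ⟶ T) (x : T ⟶ A) :
    eT A L (g ≫ x) ≫ bca (ff A) ((Scheme.Modules.pullback (fst A A).left).obj L) (gA g x) =
      bcLift A L g ≫ eT A L x := by
  refine (isCart_proj (ff A) L (fst A A).left (TA A x)).ext ?_ ?_
  · change (eT A L (g ≫ x)).base ≫ PicF.XTmap (ff A) (gA g x) = (bcLift A L g).base ≫ (eT A L x).base
    rw [eT_base, eT_base, bcLift_base, jT_map]
  · rw [Category.assoc, Category.assoc, eT_proj, bcLift_pr, bca_proj, eT_proj]

/-- Base change of theta points corresponds to pull back of isomorphisms. -/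
theorem isBaseChange_iff_pull {T T' : Over S} (g : T' ⟶ T) (x : T ⟶ A) {β : thetaPts A L T} {β' : thetaPts A L T'}
    {v : E₁ A L (T' := TA A x) ≅ E₂ A L} {v' : E₁ A L (T' := TA A (g ≫ x)) ≅ E₂ A L}
    (h : Cmp A L x β v) (h' : Cmp A L (g ≫ x) β' v') :
    IsBaseChange β' g β ↔
      (FGA.ETiso (ff A) ((Scheme.Modules.pullback (fst A A).left).obj L) (gA g x)).symm ≪≫
        (Scheme.Modules.pullback (PicF.XTmap (ff A) (gA g x))).mapIso v ≪≫
        FGA.ETiso (ff A) ((Scheme.Modules.pullback (μ[A] : A ⊗ A ⟶ A).left).obj L) (gA g x) = v' := by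
  rw [pull_eq_iff (ff A) (fst A A).left (μ[A] : A ⊗ A ⟶ A).left L (gA g x) v v']
  have hb : (β'.1.hom ≫ bcLift A L g).base = (bcLift A L g ≫ β.1.hom).base := by
    change β'.1.hom.base ≫ (bcLift A L g).base = (bcLift A L g).base ≫ β.1.hom.base
    have h1 : β.1.hom.base = (transl A (pt β)).left := over_pt β
    have h2 : β'.1.hom.base = (transl A (pt β')).left := over_pt β'
    rw [h1, h2, h.pt_eq, h'.pt_eq, bcLift_base, ← Over.comp_left, ← Over.comp_left]
    congr 1
    apply CartesianMonoidalCategory.hom_ext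
    · rw [Category.assoc, whiskerLeft_fst, transl_fst, Category.assoc, transl_fst, comp_mul, whiskerLeft_fst,
        whiskerLeft_snd_assoc]
    · rw [Category.assoc, whiskerLeft_snd, ← Category.assoc, transl_snd, Category.assoc, transl_snd, whiskerLeft_snd]
  have e1 : IsBaseChange β' g β ↔ (β'.1.hom ≫ bcLift A L g) ≫ pr A L T = (bcLift A L g ≫ β.1.hom) ≫ pr A L T :=
    ⟨fun w => by rw [show β'.1.hom ≫ bcLift A L g = bcLift A L g ≫ β.1.hom from w],
      fun w => (isCart_pr A L T).ext hb w⟩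
  rw [e1, Category.assoc, Category.assoc, bcLift_pr]
  rw [show β'.1.hom ≫ pr A L T' = _ from h', show β.1.hom ≫ pr A L T = _ from h, ← Category.assoc (bcLift A L g),
    ← eT_bca, Category.assoc]
  constructor
  · intro w
    exact (cancel_epi (eT A L (g ≫ x))).mp w
  · intro w
    rw [w]

section Rep

variable (A L)

/-- The base change functor of theta points. -/
def thetaFun : (Over S)ᵒᵖ ⥤ GrpCat.{u} where
  obj T := GrpCat.of (thetaPts A L T.unop)
  map g := GrpCat.ofHom (bc g.unop)
  map_id T := by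
    refine GrpCat.hom_ext (MonoidHom.ext fun β => ?_)
    exact bc_id β
  map_comp g h := by
    refine GrpCat.hom_ext (MonoidHom.ext fun β => ?_)
    exact (bc_bc g.unop h.unop β).symm

variable {A L}

/-- The group law on an object representing the theta points. -/
theorem exists_grpObj (G : Over S) (uG : thetaPts A L G)
    (univ : ∀ (T : Over S) (β : thetaPts A L T), ∃! g : T ⟶ G, IsBaseChange β g uG) :
    ∃ _ : GrpObj G, IsThetaGrpSch A L G uG := by
  let α : (thetaFun A L ⋙ forget _).RepresentableBy G :=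
    { homEquiv := fun {T} => Equiv.ofBijective (fun g : T ⟶ G => bc g uG) (by
        constructor
        · intro g h w
          obtain ⟨x, -, hx⟩ := univ T (bc g uG)
          rw [hx g (isBaseChange_iff.mpr rfl), hx h (isBaseChange_iff.mpr w)]
        · intro β
          obtain ⟨x, hx, -⟩ := univ T β
          exact ⟨x, (isBaseChange_iff.mp hx).symm⟩)
      homEquiv_comp := fun {T T'} g h => (bc_bc h g uG).symm }
  let _ : GrpObj G := GrpObj.ofRepresentableBy G (thetaFun A L) α
  have hmul : ∀ (T : Over S) (g h : T ⟶ G), bc (g * h) uG = bc g uG * bc h uG := by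
    intro T g h
    have h1 := ((yonedaGrpObjIsoOfRepresentableBy G (thetaFun A L) α).hom.app (Opposite.op T)).hom.map_mul g h
    exact h1
  refine ⟨inferInstance, ⟨univ, fun T g => ⟨bc g uG, isBaseChange_iff.mpr rfl, fun β h => isBaseChange_iff.mp h⟩, ?_⟩⟩
  intro T g h β₁ β₂ h₁ h₂
  rw [isBaseChange_iff] at h₁ h₂ ⊢
  rw [hmul, h₁, h₂]

/-- Representability of the theta group, from representability of the isomorphisms on `A × A`. -/
theorem exists_rep (I : Over A.left) (v : E₁ A L (T' := I) ≅ E₂ A L)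
    (hI : ∀ (T : Over A.left) (w : E₁ A L (T' := T) ≅ E₂ A L), ∃! g : T ⟶ I,
      (FGA.ETiso (ff A) ((Scheme.Modules.pullback (fst A A).left).obj L) g).symm ≪≫
        (Scheme.Modules.pullback (PicF.XTmap (ff A) g)).mapIso v ≪≫
        FGA.ETiso (ff A) ((Scheme.Modules.pullback (μ[A] : A ⊗ A ⟶ A).left).obj L) g = w) :
    ∃ (_ : GrpObj (Over.mk (I.hom ≫ A.hom))) (uG : thetaPts A L (Over.mk (I.hom ≫ A.hom))),
      IsThetaGrpSch A L (Over.mk (I.hom ≫ A.hom)) uG := by
  let G : Over S := Over.mk (I.hom ≫ A.hom)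
  let xG : G ⟶ A := Over.homMk I.hom
  obtain ⟨uG, huG⟩ := exists_β (A := A) (L := L) (T := G) xG v
  have univ : ∀ (T : Over S) (β : thetaPts A L T), ∃! g : T ⟶ G, IsBaseChange β g uG := by
    intro T β
    obtain ⟨w, hw⟩ := exists_v β
    obtain ⟨g', hg', hu⟩ := hI (TA A (pt β)) w
    have hg'w : g'.left ≫ I.hom = (pt β).left := Over.w g'
    let g : T ⟶ G := Over.homMk g'.left (by
      change g'.left ≫ I.hom ≫ A.hom = T.hom
      rw [← Category.assoc, hg'w]
      exact Over.w (pt β))
    have hgx : g ≫ xG = pt β := Over.OverMorphism.ext hg'w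
    -- transport along `hgx`
    have key : ∀ (x : T ⟶ A) (hx : g ≫ xG = x) (w : E₁ A L (T' := TA A x) ≅ E₂ A L) (hw : Cmp A L x β w)
        (k : TA A x ⟶ I) (hk : k.left = g.left)
        (hkw : (FGA.ETiso (ff A) ((Scheme.Modules.pullback (fst A A).left).obj L) k).symm ≪≫
          (Scheme.Modules.pullback (PicF.XTmap (ff A) k)).mapIso v ≪≫
          FGA.ETiso (ff A) ((Scheme.Modules.pullback (μ[A] : A ⊗ A ⟶ A).left).obj L) k = w),
        IsBaseChange β g uG := by
      rintro x rfl w hw k hk hkw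
      rw [isBaseChange_iff_pull g xG huG hw]
      have : gA g xG = k := Over.OverMorphism.ext hk.symm
      rw [this]
      exact hkw
    refine ⟨g, key (pt β) hgx w hw g' rfl hg', ?_⟩
    intro h hh
    have hpt : pt β = h ≫ xG := by
      rw [(isBaseChange_iff.mp hh), pt_bc, huG.pt_eq]
    have key2 : ∀ (x : T ⟶ A) (hx : h ≫ xG = x) (w : E₁ A L (T' := TA A x) ≅ E₂ A L) (hw : Cmp A L x β w)
        (g' : TA A x ⟶ I)
        (hu : ∀ y : TA A x ⟶ I, (FGA.ETiso (ff A) ((Scheme.Modules.pullback (fst A A).left).obj L) y).symm ≪≫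
          (Scheme.Modules.pullback (PicF.XTmap (ff A) y)).mapIso v ≪≫
          FGA.ETiso (ff A) ((Scheme.Modules.pullback (μ[A] : A ⊗ A ⟶ A).left).obj L) y = w → y = g'),
        h.left = g'.left := by
      rintro x rfl w hw g' hu
      rw [← hu (gA h xG) ((isBaseChange_iff_pull h xG huG hw).mp hh)]
      rfl
    exact Over.OverMorphism.ext (key2 (pt β) hpt.symm w hw g' hu)
  obtain ⟨hG, h⟩ := exists_grpObj G uG univ
  exact ⟨hG, uG, h⟩

/-- Two schemes representing the theta points are isomorphic. -/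
theorem nonempty_iso {G G' : Over S} [GrpObj G] [GrpObj G'] {u : thetaPts A L G} {u' : thetaPts A L G'}
    (h : IsThetaGrpSch A L G u) (h' : IsThetaGrpSch A L G' u') : Nonempty (G ≅ G') := by
  obtain ⟨a, ha, -⟩ := h'.univ G u
  obtain ⟨b, hb, -⟩ := h.univ G' u'
  have ha' : IsBaseChange u a u' := ha
  have hb' : IsBaseChange u' b u := hb
  rw [isBaseChange_iff] at ha' hb'
  refine ⟨⟨a, b, ?_, ?_⟩⟩
  · obtain ⟨x, -, hx⟩ := h.univ G u
    have h1 : IsBaseChange u (a ≫ b) u := by rw [isBaseChange_iff, ← bc_bc, ← hb', ← ha']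
    have h2 : IsBaseChange u (𝟙 G) u := by rw [isBaseChange_iff, bc_id]
    rw [hx (a ≫ b) h1, hx (𝟙 G) h2]
  · obtain ⟨x, -, hx⟩ := h'.univ G' u'
    have h1 : IsBaseChange u' (b ≫ a) u' := by rw [isBaseChange_iff, ← bc_bc, ← ha', ← hb']
    have h2 : IsBaseChange u' (𝟙 G') u' := by rw [isBaseChange_iff, bc_id]
    rw [hx (b ≫ a) h1, hx (𝟙 G') h2]

end Rep

end K595.ThetaRep
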