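import Groth.Agent.ThetaGrp.K595.Main
import Groth.Agent.ThetaGrp.K999.Iso
import Groth.Agent.AbVar.K520.Quot
import Groth.Agent.Sga7.H783.GmSub

/-!
# Level subgroups of the theta group and quotients
-/

set_option autoImplicit false
universe u

open CategoryTheory CategoryTheory.Limits MonoidalCategory CartesianMonoidalCategory MonObj AlgebraicGeometry
open ThetaGrp K999.Cart K999.Rel K999.Ker

noncomputable section

namespace K595.Level

section Formal

variable {S : Scheme.{u}} {A : Over S} [GrpObj A] [IsCommMonObj A] {L : A.left.Modules} {G : Over S} [GrpObj G]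
  {u : thetaPts A L G} {H : Over S} [GrpObj H] {j : H ⟶ G} [IsMonHom j] {iH : H ⟶ A}

theorem pt_bc (hG : IsThetaGrpSch A L G u)
    (hover : ∀ (T : Over S) (h : T ⟶ H) (β : thetaPts A L T), IsBaseChange β (h ≫ j) u → IsOverPt β (h ≫ iH))
    {T : Over S} (h : T ⟶ H) : pt (bc (h ≫ j) u) = h ≫ iH :=
  over_iff.mp (hover T h _ (isBaseChange_iff.mpr rfl))

theorem isMonHom (hG : IsThetaGrpSch A L G u)
    (hover : ∀ (T : Over S) (h : T ⟶ H) (β : thetaPts A L T), IsBaseChange β (h ≫ j) u → IsOverPt β (h ≫ iH)) :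
    IsMonHom iH := by
  refine isMonHom_of_points iH fun T x y => ?_
  have h1 : bc ((x * y) ≫ j) u = bc (x ≫ j) u * bc (y ≫ j) u := by
    have := hG.mul T (x ≫ j) (y ≫ j) _ _ (isBaseChange_iff.mpr rfl) (isBaseChange_iff.mpr rfl)
    rw [isBaseChange_iff] at this
    rw [MonObj.mul_comp, ← this]
  rw [← pt_bc hG hover, h1, pt_mul, pt_bc hG hover, pt_bc hG hover, _root_.mul_comm]

theorem mono (hG : IsThetaGrpSch A L G u)
    (hover : ∀ (T : Over S) (h : T ⟶ H) (β : thetaPts A L T), IsBaseChange β (h ≫ j) u → IsOverPt β (h ≫ iH))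
    (hj : ∀ (T : Over S) (h : T ⟶ H) (β : thetaPts A L T), IsBaseChange β (h ≫ j) u → IsOverPt β 1 → h = 1) :
    Mono iH := by
  have := isMonHom hG hover
  refine ⟨fun {T} x y h => ?_⟩
  have h1 : (x * y⁻¹) ≫ iH = 1 := by
    rw [MonObj.mul_comp, GrpObj.inv_comp, h, mul_inv_cancel]
  have h2 : x * y⁻¹ = 1 := hj T (x * y⁻¹) _ (isBaseChange_iff.mpr rfl) (by
    rw [over_iff, pt_bc hG hover, h1])
  exact mul_inv_eq_one.mp h2

end Formal

section Field

variable {k : Type u} [Field k]

/-- Level subgroups define quotients to which the module descends. -/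
theorem exists_quot (A : Over (Spec (CommRingCat.of k))) [GrpObj A] [IsCommMonObj A] [IsProper A.hom]
    [GeometricallyIntegral A.hom] (L : A.left.Modules) (hL : PicF.IsInvertible L)
    (G : Over (Spec (CommRingCat.of k))) [GrpObj G] (u : thetaPts A L G) (hG : IsThetaGrpSch A L G u)
    [LocallyOfFiniteType G.hom] [CompactSpace G.left]
    (H : Over (Spec (CommRingCat.of k))) [GrpObj H] (j : H ⟶ G) (hj : IsLevelSubgrp u j) (iH : H ⟶ A)
    (hover : ∀ (T : Over (Spec (CommRingCat.of k))) (h : T ⟶ H) (β : thetaPts A L T),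
      IsBaseChange β (h ≫ j) u → IsOverPt β (h ≫ iH)) :
    ∃ (B : Over (Spec (CommRingCat.of k))) (_ : GrpObj B) (f : A ⟶ B),
      IsProper B.hom ∧ GeometricallyIntegral B.hom ∧ IsMonHom f ∧ Surjective f.left ∧
      AlgGrp.IsKernel iH f ∧
      ∃ M : B.left.Modules, PicF.IsInvertible M ∧ Nonempty ((Scheme.Modules.pullback f.left).obj M ≅ L) := by
  obtain ⟨hj1, hj2, hj3⟩ := hj
  have hm : IsMonHom iH := isMonHom hG hover
  have hmono : Mono iH := mono hG hover hj3
  have hH1 : LocallyOfFiniteType H.hom := by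
    rw [← Over.w j]
    infer_instance
  have hN : IsLocallyNoetherian G.left := LocallyOfFiniteType.isLocallyNoetherian G.hom
  have hN' : IsNoetherian G.left := { }
  have hH2 : QuasiCompact H.hom := by
    have : CompactSpace H.left := by
      have : TopologicalSpace.NoetherianSpace G.left := inferInstance
      have h := hj1.isEmbedding.isInducing.noetherianSpace
      infer_instance
    exact (quasiCompact_iff_compactSpace H.hom).mpr this
  have hcl : IsClosedImmersion iH.left := Groth.Agent.Sga7.H783.GmSub.isClosedImmersion_of_mono iH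
  obtain ⟨Q, hQ, hQc, hQp, hQg, q, h1, h2, h3, h4⟩ := K520.Quot.exists_quotient A H iH
  have h5 : QuasiCompact q.toHom.left := by
    have : QuasiCompact (q.toHom.left ≫ Q.hom) := by
      rw [Over.w q.toHom]
      infer_instance
    exact QuasiCompact.of_comp q.toHom.left Q.hom
  obtain ⟨M, m, hf, hM, -⟩ := K999.VIso.exists_descent_inv q.toHom h4 hL
    (K999.VIso.kliftOfHom hG j fun T n => pt_bc hG hover n)
  obtain ⟨e, -⟩ := K999.VIso.exists_iso_pmor m
  refine ⟨Q, hQ, q.toHom, hQp, hQg, inferInstance, h2, h4, M, hM, ⟨?_⟩⟩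
  rw [← hf]
  exact e

end Field

end K595.Level
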