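import Groth.Agent.ThetaGrp.K999.Rel
import Groth.Prelude.Def_FGA

/-!
# Representability of the theta group

The points of `G(L)(T)` over `x : T ⟶ A` are the isomorphisms `(fst^*L)_T ≅ (μ^*L)_T` on the base change along `x` of
`snd : A × A ⟶ A`.
-/

set_option autoImplicit false
universe u

open CategoryTheory CategoryTheory.Limits MonoidalCategory CartesianMonoidalCategory MonObj AlgebraicGeometry
open ThetaGrp K999.Cart K999.Rel

noncomputable section

namespace K595.ThetaRep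

section Arr

variable {X Y : Scheme.{u}}

/-- A morphism of modules as an arrow of pairs. -/
def im {M N : X.Modules} (h : M ⟶ N) : ob X M ⟶ ob X N :=
  arr (𝟙 X) (h ≫ (Scheme.Modules.pullbackId X).inv.app N)

theorem im_base {M N : X.Modules} (h : M ⟶ N) : (im h).base = 𝟙 X := rfl

theorem im_comp {M N P : X.Modules} (h : M ⟶ N) (k : N ⟶ P) : im (h ≫ k) = im h ≫ im k :=
  (Pseudofunctor.CoGrothendieck.ι modPF.{u} X).map_comp (X := M) (Y := N) (Z := P) h k

theorem im_id (M : X.Modules) : im (𝟙 M) = 𝟙 (ob X M) :=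
  (Pseudofunctor.CoGrothendieck.ι modPF.{u} X).map_id M

theorem im_inj {M N : X.Modules} {h k : M ⟶ N} (w : im h = im k) : h = k :=
  (cancel_mono _).mp (arr_inj w)

theorem exists_im {M N : X.Modules} (φ : ob X M ⟶ ob X N) (hb : φ.base = 𝟙 X) : ∃ h : M ⟶ N, im h = φ := by
  have key : ∀ (g : X ⟶ X) (e : g = 𝟙 X) (k : M ⟶ (Scheme.Modules.pullback g).obj N),
      ∃ h : M ⟶ N, im h = arr g k := by
    rintro _ rfl k
    refine ⟨k ≫ (Scheme.Modules.pullbackId X).hom.app N, ?_⟩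
    rw [im, Category.assoc, Iso.hom_inv_id_app]
    exact congrArg (arr (𝟙 X)) (Category.comp_id _)
  exact key φ.base hb φ.fiber

theorem arr_eq_arr_iff {f f' : X ⟶ Y} {M : X.Modules} {N : Y.Modules} (e : f = f')
    (h : M ⟶ (Scheme.Modules.pullback f).obj N) (h' : M ⟶ (Scheme.Modules.pullback f').obj N) :
    arr f h = arr f' h' ↔ h ≫ (Scheme.Modules.pullbackCongr e).hom.app N = h' := by
  refine ⟨fun w => ?_, arr_eq_arr e h h'⟩
  subst e
  have : (Scheme.Modules.pullbackCongr (rfl : f = f)).hom.app N = 𝟙 _ := rfl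
  rw [this, Category.comp_id]
  exact arr_inj w

theorem im_comp_cart {M : X.Modules} {N : Y.Modules} (g : X ⟶ Y) (k : M ⟶ (Scheme.Modules.pullback g).obj N) :
    im k ≫ cart g N = arr g k := by
  have h1 : im (𝟙 ((Scheme.Modules.pullback g).obj N)) ≫ cart g N = arr g (𝟙 _) := by
    rw [im_id, Category.id_comp]
    rfl
  rw [im, Category.id_comp, arr_comp_cart, arr_eq_arr_iff (Category.id_comp g)] at h1
  rw [im, arr_comp_cart, arr_eq_arr_iff (Category.id_comp g)]
  simp only [Category.assoc] at h1 ⊢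
  rw [h1, Category.comp_id]

theorem im_comp_arr {M M' : X.Modules} {N : Y.Modules} (h : M ⟶ M') (g : X ⟶ Y)
    (k : M' ⟶ (Scheme.Modules.pullback g).obj N) : im h ≫ arr g k = arr g (h ≫ k) := by
  rw [← im_comp_cart, ← im_comp_cart, im_comp, Category.assoc]

theorem cart_comp_im {N N' : Y.Modules} (g : X ⟶ Y) (h : N ⟶ N') :
    cart g N ≫ im h = arr g ((Scheme.Modules.pullback g).map h) := by
  have h1 : cart g N' ≫ im (𝟙 N') = arr g (𝟙 _) := by
    rw [im_id, Category.comp_id]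
    rfl
  rw [im, cart_eq_arr, arr_comp_arr, Category.id_comp, Category.id_comp,
    arr_eq_arr_iff (Category.comp_id g)] at h1
  rw [im, cart_eq_arr, arr_comp_arr, Category.id_comp, arr_eq_arr_iff (Category.comp_id g), Functor.map_comp]
  simp only [Category.assoc] at h1 ⊢
  rw [h1, Category.comp_id]

theorem arr_comp_im {M : X.Modules} {N N' : Y.Modules} (g : X ⟶ Y)
    (k : M ⟶ (Scheme.Modules.pullback g).obj N) (h : N ⟶ N') :
    arr g k ≫ im h = arr g (k ≫ (Scheme.Modules.pullback g).map h) := by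
  rw [← im_comp_cart, Category.assoc, cart_comp_im, im_comp_arr]

instance {M N : X.Modules} (v : M ≅ N) : IsIso (im v.hom) :=
  ⟨im v.inv, by rw [← im_comp, Iso.hom_inv_id, im_id], by rw [← im_comp, Iso.inv_hom_id, im_id]⟩

theorem isCart_im {M N : X.Modules} (v : M ≅ N) : IsCart (im v.hom) :=
  IsCart.of_isIso (im v.hom)

/-- An invertible arrow over the identity comes from an isomorphism of modules. -/
theorem exists_iso {M N : X.Modules} (φ : ob X M ⟶ ob X N) (hb : φ.base = 𝟙 X) (hc : IsCart φ) :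
    ∃ v : M ≅ N, im v.hom = φ := by
  have hi : IsIso φ := hc.isIso (by rw [hb]; infer_instance)
  have hinv : (inv φ).base = 𝟙 X := by
    have h : (φ ≫ inv φ).base = 𝟙 X := by rw [IsIso.hom_inv_id]; rfl
    change φ.base ≫ (inv φ).base = 𝟙 X at h
    rwa [hb, Category.id_comp] at h
  obtain ⟨h, hh⟩ := exists_im φ hb
  obtain ⟨k, hk⟩ := exists_im (inv φ) hinv
  refine ⟨⟨h, k, ?_, ?_⟩, hh⟩
  · apply im_inj
    rw [im_comp, hh, hk, IsIso.hom_inv_id, im_id]
  · apply im_inj
    rw [im_comp, hh, hk, IsIso.inv_hom_id, im_id]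

end Arr

section Fam

variable {X S Z : Scheme.{u}} (f : X ⟶ S) (p₁ p₂ : X ⟶ Z) (L : Z.Modules)

/-- The canonical arrow `(X_T, (p^*L)_T) ⟶ (Z, L)`. -/
def proj (p : X ⟶ Z) (T : Over S) : ob (PicF.XT f T) (FGA.ET f ((Scheme.Modules.pullback p).obj L) T) ⟶ ob Z L :=
  cart (Limits.pullback.fst f T.hom) ((Scheme.Modules.pullback p).obj L) ≫ cart p L

theorem isCart_proj (p : X ⟶ Z) (T : Over S) : IsCart (proj f L p T) := (isCart_cart _ _).comp (isCart_cart _ _)

theorem proj_base (p : X ⟶ Z) (T : Over S) : (proj f L p T).base = Limits.pullback.fst f T.hom ≫ p := rfl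

/-- The canonical arrow `(X_{T'}, M_{T'}) ⟶ (X_T, M_T)`. -/
def bca (M : X.Modules) {T T' : Over S} (g : T' ⟶ T) :
    ob (PicF.XT f T') (FGA.ET f M T') ⟶ ob (PicF.XT f T) (FGA.ET f M T) :=
  arr (PicF.XTmap f g) (FGA.ETiso f M g).inv

theorem bca_base (M : X.Modules) {T T' : Over S} (g : T' ⟶ T) : (bca f M g).base = PicF.XTmap f g := rfl

theorem bca_cart (M : X.Modules) {T T' : Over S} (g : T' ⟶ T) :
    bca f M g ≫ cart (Limits.pullback.fst f T.hom) M = cart (Limits.pullback.fst f T'.hom) M :=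
  arr_congr_comp_cart (FGA.XTmap_fst f g).symm M

theorem bca_proj (p : X ⟶ Z) {T T' : Over S} (g : T' ⟶ T) :
    bca f ((Scheme.Modules.pullback p).obj L) g ≫ proj f L p T = proj f L p T' := by
  rw [proj, ← Category.assoc, bca_cart]
  rfl

/-- The isomorphism `v : (p₁^*L)_T ≅ (p₂^*L)_T` as an arrow to `(Z, L)`. -/
def Phi {T : Over S} (v : FGA.ET f ((Scheme.Modules.pullback p₁).obj L) T ≅
    FGA.ET f ((Scheme.Modules.pullback p₂).obj L) T) :
    ob (PicF.XT f T) (FGA.ET f ((Scheme.Modules.pullback p₁).obj L) T) ⟶ ob Z L :=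
  im v.hom ≫ proj f L p₂ T

theorem Phi_base {T : Over S} (v : FGA.ET f ((Scheme.Modules.pullback p₁).obj L) T ≅
    FGA.ET f ((Scheme.Modules.pullback p₂).obj L) T) :
    (Phi f p₁ p₂ L v).base = Limits.pullback.fst f T.hom ≫ p₂ := by
  change 𝟙 _ ≫ _ = _
  rw [Category.id_comp]
  rfl

theorem isCart_Phi {T : Over S} (v : FGA.ET f ((Scheme.Modules.pullback p₁).obj L) T ≅
    FGA.ET f ((Scheme.Modules.pullback p₂).obj L) T) : IsCart (Phi f p₁ p₂ L v) :=
  (isCart_im v).comp (isCart_proj _ _ _ _)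

theorem Phi_inj {T : Over S} {v w : FGA.ET f ((Scheme.Modules.pullback p₁).obj L) T ≅
    FGA.ET f ((Scheme.Modules.pullback p₂).obj L) T} (h : Phi f p₁ p₂ L v = Phi f p₁ p₂ L w) : v = w :=
  Iso.ext (im_inj ((isCart_proj f L p₂ T).ext rfl h))

theorem exists_Phi {T : Over S}
    (φ : ob (PicF.XT f T) (FGA.ET f ((Scheme.Modules.pullback p₁).obj L) T) ⟶ ob Z L)
    (hb : φ.base = Limits.pullback.fst f T.hom ≫ p₂) (hc : IsCart φ) : ∃ v, Phi f p₁ p₂ L v = φ := by
  have w : φ.base = 𝟙 (PicF.XT f T) ≫ (proj f L p₂ T).base := by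
    rw [hb, Category.id_comp]
    rfl
  obtain ⟨v, hv⟩ := exists_iso ((isCart_proj f L p₂ T).lift
    (a' := ob (PicF.XT f T) (FGA.ET f ((Scheme.Modules.pullback p₁).obj L) T)) (𝟙 (PicF.XT f T)) φ w)
    ((isCart_proj f L p₂ T).lift_base _ _ _) ((isCart_proj f L p₂ T).of_comp (by
      rw [(isCart_proj f L p₂ T).lift_comp]; exact hc))
  refine ⟨v, ?_⟩
  rw [Phi, hv, (isCart_proj f L p₂ T).lift_comp]

/-- Compatibility of `Phi` with base change. -/
theorem pull_eq_iff {T T' : Over S} (g : T' ⟶ T)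
    (u : FGA.ET f ((Scheme.Modules.pullback p₁).obj L) T ≅ FGA.ET f ((Scheme.Modules.pullback p₂).obj L) T)
    (v : FGA.ET f ((Scheme.Modules.pullback p₁).obj L) T' ≅ FGA.ET f ((Scheme.Modules.pullback p₂).obj L) T') :
    (FGA.ETiso f ((Scheme.Modules.pullback p₁).obj L) g).symm ≪≫ (Scheme.Modules.pullback (PicF.XTmap f g)).mapIso u ≪≫
      FGA.ETiso f ((Scheme.Modules.pullback p₂).obj L) g = v ↔
    Phi f p₁ p₂ L v = bca f ((Scheme.Modules.pullback p₁).obj L) g ≫ Phi f p₁ p₂ L u := by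
  have e1 : Phi f p₁ p₂ L v = (im v.hom ≫ bca f ((Scheme.Modules.pullback p₂).obj L) g) ≫ proj f L p₂ T := by
    rw [Category.assoc, bca_proj]
    rfl
  have e2 : bca f ((Scheme.Modules.pullback p₁).obj L) g ≫ Phi f p₁ p₂ L u =
      (bca f ((Scheme.Modules.pullback p₁).obj L) g ≫ im u.hom) ≫ proj f L p₂ T := by
    rw [Category.assoc]
    rfl
  have e3 : im v.hom ≫ bca f ((Scheme.Modules.pullback p₂).obj L) g =
      arr (PicF.XTmap f g) (v.hom ≫ (FGA.ETiso f ((Scheme.Modules.pullback p₂).obj L) g).inv) := by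
    rw [bca, im_comp_arr]
  have e4 : bca f ((Scheme.Modules.pullback p₁).obj L) g ≫ im u.hom =
      arr (PicF.XTmap f g) ((FGA.ETiso f ((Scheme.Modules.pullback p₁).obj L) g).inv ≫
        (Scheme.Modules.pullback (PicF.XTmap f g)).map u.hom) := by
    rw [bca, arr_comp_im]
  rw [e1, e2]
  constructor
  · rintro rfl
    rw [e3, e4]
    simp
  · intro h
    have h1 := (isCart_proj f L p₂ T).ext (by
      rw [e3, e4]
      rfl) h
    rw [e3, e4] at h1
    have h2 := arr_inj h1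
    rw [Iso.comp_inv_eq] at h2
    ext1
    rw [h2]
    simp

end Fam

end K595.ThetaRep
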